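import Groth.Agent.Lib.FlatFibInj.Local
import Mathlib.Order.Zorn
import Mathlib.LinearAlgebra.TensorProduct.Prod
import Mathlib.RingTheory.Flat.Basic
import Mathlib.Algebra.Module.Torsion.Basic

/-!
# Universal injectivity from injectivity on fibres
-/

set_option autoImplicit false
set_option linter.style.haveILetI false

universe u

open TensorProduct

namespace Groth.Agent.FlatFibInj

variable {A : Type u} [CommRing A] {N M : Type u} [AddCommGroup N] [Module A N] [AddCommGroup M] [Module A M]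

/-- Vanishing in a quotient is membership in the image. -/
theorem mkQ_rTensor_eq_zero_iff {Q : Type u} [AddCommGroup Q] [Module A Q] (V : Submodule A Q) (ξ : Q ⊗[A] N) :
    V.mkQ.rTensor N ξ = 0 ↔ ξ ∈ LinearMap.range (V.subtype.rTensor N) :=
  (rTensor_exact N (LinearMap.exact_subtype_mkQ V) (Submodule.mkQ_surjective V) ξ)

/-- It suffices to test uniform modules. -/
theorem injective_lTensor_of_uniform (u : N →ₗ[A] M)
    (h : ∀ (Q : Type u) [AddCommGroup Q] [Module A Q] (ξ : Q ⊗[A] N), u.lTensor Q ξ = 0 →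
      (∀ V : Submodule A Q, V ≠ ⊥ → ξ ∈ LinearMap.range (V.subtype.rTensor N)) → ξ = 0)
    (Q : Type u) [AddCommGroup Q] [Module A Q] : Function.Injective (u.lTensor Q) := by
  rw [injective_iff_map_eq_zero]
  intro ξ hξ
  by_contra hne
  let S : Set (Submodule A Q) := {V | ξ ∉ LinearMap.range (V.subtype.rTensor N)}
  have hch : ∀ c ⊆ S, IsChain (· ≤ ·) c → ∀ y ∈ c, ∃ ub ∈ S, ∀ z ∈ c, z ≤ ub := by
    intro c hc hchain y hy
    refine ⟨sSup c, ?_, fun z hz => le_sSup hz⟩
    intro hmem
    obtain ⟨t, ht⟩ := hmem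
    obtain ⟨T, hT⟩ := TensorProduct.exists_finset t
    have : ∀ T : Finset (↥(sSup c : Submodule A Q) × N), ∃ V ∈ c, ∀ p ∈ T, (p.1 : Q) ∈ V := by
      classical
      intro T
      induction T using Finset.induction with
      | empty => exact ⟨y, hy, fun p hp => absurd hp (Finset.notMem_empty p)⟩
      | insert p T _ ih =>
        obtain ⟨V, hV, hVT⟩ := ih
        obtain ⟨W, hW, hpW⟩ := (Submodule.mem_sSup_of_directed ⟨y, hy⟩ hchain.directedOn).1 p.1.2
        obtain ⟨U, hU, hVU, hWU⟩ := hchain.directedOn V hV W hW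
        refine ⟨U, hU, fun q hq => ?_⟩
        rcases Finset.mem_insert.1 hq with rfl | hq
        · exact hWU hpW
        · exact hVU (hVT q hq)
    obtain ⟨V, hV, hVT⟩ := this T
    refine hc hV ⟨∑ p : T, (⟨(p.1.1 : Q), hVT p.1 p.2⟩ : V) ⊗ₜ p.1.2, ?_⟩
    rw [← ht, hT, map_sum, map_sum, ← Finset.sum_coe_sort T]
    exact Finset.sum_congr rfl fun p _ => rfl
  obtain ⟨V, -, hV⟩ := zorn_le_nonempty₀ S hch ⊥ (fun hmem => hne (by
      obtain ⟨t, rfl⟩ := hmem
      rw [Subsingleton.elim t 0, map_zero]))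
  refine hV.1 ((mkQ_rTensor_eq_zero_iff V ξ).1 (h (Q ⧸ V) (V.mkQ.rTensor N ξ) ?_ fun V' hV' => ?_))
  · have := congrArg (V.mkQ.rTensor M) hξ
    rw [map_zero] at this
    rw [← this]
    exact LinearMap.congr_fun
      ((LinearMap.lTensor_comp_rTensor _ _ _).trans (LinearMap.rTensor_comp_lTensor _ _ _).symm) ξ
  · have hlt : V < V'.comap V.mkQ := lt_of_le_of_ne (fun v hv => by
      rw [Submodule.mem_comap, Submodule.mkQ_apply, (Submodule.Quotient.mk_eq_zero V).2 hv]
      exact zero_mem _) fun e => hV' (by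
        rw [← Submodule.map_comap_eq_of_surjective (Submodule.mkQ_surjective V) V', ← e, Submodule.mkQ_map_self])
    have hmem : ξ ∈ LinearMap.range ((V'.comap V.mkQ).subtype.rTensor N) := by
      by_contra hc
      exact hlt.not_ge (hV.2 hc hlt.le)
    obtain ⟨t, rfl⟩ := hmem
    refine ⟨(V.mkQ.restrict (p := V'.comap V.mkQ) (q := V') fun x hx => hx).rTensor N t, ?_⟩
    rw [← LinearMap.rTensor_comp_apply, ← LinearMap.rTensor_comp_apply]
    rfl

/-- Universal injectivity from the fibres. -/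
theorem injective_lTensor_of_fibres {B L : Type u} [CommRing B] [Algebra A B] [Algebra.FiniteType A B]
    (T : Submonoid B) [CommRing L] [Algebra B L] [Algebra A L] [IsScalarTower A B L] [IsLocalization T L]
    [Module L N] [IsScalarTower A L N] [Module.Finite L N] [Module.Flat A N] [Module.Flat A M] (u : N →ₗ[A] M)
    (hu : ∀ (p : Ideal A) [p.IsPrime], Function.Injective (u.lTensor p.ResidueField))
    (Q : Type u) [AddCommGroup Q] [Module A Q] : Function.Injective (u.lTensor Q) := by
  classical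
  refine injective_lTensor_of_uniform u (fun Q _ _ ξ hξ hV => ?_) Q
  by_contra hne
  have hmeet : ∀ V V' : Submodule A Q, V ≠ ⊥ → V' ≠ ⊥ → V ⊓ V' ≠ ⊥ := fun V V' h h' e => hne (by
    let j : Q →ₗ[A] (Q ⧸ V) × (Q ⧸ V') := V.mkQ.prod V'.mkQ
    have hj : Function.Injective j := by
      rw [← LinearMap.ker_eq_bot, LinearMap.ker_prod, Submodule.ker_mkQ, Submodule.ker_mkQ, e]
    refine Module.Flat.rTensor_preserves_injective_linearMap (M := N) j hj ?_
    rw [map_zero]
    refine (TensorProduct.prodLeft A A (Q ⧸ V) (Q ⧸ V') N).injective ?_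
    rw [map_zero]
    have key : ∀ z, TensorProduct.prodLeft A A (Q ⧸ V) (Q ⧸ V') N (j.rTensor N z) =
        (V.mkQ.rTensor N z, V'.mkQ.rTensor N z) := fun z => by
      induction z using TensorProduct.induction_on with
      | zero => simp [Prod.ext_iff]
      | tmul x y => simp [j]
      | add a b ha hb => simp only [map_add, ha, hb, Prod.mk_add_mk]
    rw [key, (mkQ_rTensor_eq_zero_iff V ξ).2 (hV V h), (mkQ_rTensor_eq_zero_iff V' ξ).2 (hV V' h')]
    rfl)
  obtain ⟨x₀, hx₀⟩ : ∃ x : Q, x ≠ 0 := by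
    by_contra hc
    push Not at hc
    haveI : Subsingleton Q := ⟨fun a b => (hc a).trans (hc b).symm⟩
    exact hne (Subsingleton.elim _ _)
  let P : Ideal A :=
    { carrier := {a | Submodule.torsionBy A Q a ≠ ⊥}
      zero_mem' := fun e => hx₀ ((Submodule.eq_bot_iff _).1 e x₀ (by simp))
      add_mem' := fun {a b} ha hb e => hmeet _ _ ha hb ((Submodule.eq_bot_iff _).2 fun x hx =>
        (Submodule.eq_bot_iff _).1 e x (by
          rw [Submodule.mem_torsionBy_iff, add_smul, (Submodule.mem_torsionBy_iff _ _).1 hx.1,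
            (Submodule.mem_torsionBy_iff _ _).1 hx.2, add_zero]))
      smul_mem' := fun c a ha e => ha ((Submodule.eq_bot_iff _).2 fun x hx => (Submodule.eq_bot_iff _).1 e x (by
        rw [Submodule.mem_torsionBy_iff, smul_eq_mul, mul_smul, (Submodule.mem_torsionBy_iff _ _).1 hx, smul_zero])) }
  have hreg : ∀ a : A, a ∉ P → ∀ x : Q, a • x = 0 → x = 0 := fun a ha x hx =>
    (Submodule.eq_bot_iff _).1 (not_not.1 ha) x ((Submodule.mem_torsionBy_iff _ _).2 hx)
  haveI hP : P.IsPrime := by
    refine ⟨fun e => ?_, fun {a b} hab => ?_⟩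
    · exact ((Ideal.eq_top_iff_one P).1 e) (Submodule.torsionBy_one (R := A) (M := Q))
    · by_contra hc
      push Not at hc
      exact hab ((Submodule.eq_bot_iff _).2 fun x hx => hreg b hc.2 x (hreg a hc.1 (b • x) (by
        rw [← mul_smul, (Submodule.mem_torsionBy_iff _ _).1 hx])))
  obtain ⟨G, hG, hloc⟩ := exists_local_ideal (N := N) P (B := B) (L := L) T u (hu P)
  have hW : ∀ G' : Finset A, ↑G' ⊆ (P : Set A) → Submodule.torsionBySet A Q ↑G' ≠ ⊥ := fun G' => by
    induction G' using Finset.induction with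
    | empty => exact fun _ e => hx₀ ((Submodule.eq_bot_iff _).1 e x₀ (by simp))
    | insert a s _ ih =>
      intro hs e
      rw [Finset.coe_insert, Set.insert_subset_iff] at hs
      refine hmeet _ _ hs.1 (ih hs.2) ((Submodule.eq_bot_iff _).2 fun x hx => (Submodule.eq_bot_iff _).1 e x ?_)
      rw [Submodule.mem_torsionBySet_iff]
      rintro ⟨c, hc⟩
      rcases Finset.mem_insert.1 (Finset.mem_coe.1 hc) with rfl | hc
      · exact (Submodule.mem_torsionBy_iff _ _).1 hx.1
      · exact (Submodule.mem_torsionBySet_iff _ _).1 hx.2 ⟨c, hc⟩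
  let W := Submodule.torsionBySet A Q (G : Set A)
  obtain ⟨y, hy⟩ := hV W (hW G hG)
  have hy0 : u.lTensor W y = 0 := by
    refine Module.Flat.rTensor_preserves_injective_linearMap (M := M) W.subtype W.injective_subtype ?_
    rw [map_zero, ← LinearMap.comp_apply, LinearMap.rTensor_comp_lTensor, ← LinearMap.lTensor_comp_rTensor,
      LinearMap.comp_apply, hy, hξ]
  refine hne ?_
  rw [← hy, hloc W (fun a ha w => Subtype.ext ((Submodule.mem_torsionBySet_iff _ _).1 w.2 ⟨a, ha⟩))
    (fun a ha w hw => Subtype.ext (hreg a ha w.1 (congrArg Subtype.val hw))) (hy0.trans (map_zero _).symm), map_zero]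

end Groth.Agent.FlatFibInj
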