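import Mathlib.RingTheory.Flat.Basic
import Mathlib.RingTheory.LocalRing.ResidueField.Ideal
import Mathlib.RingTheory.Localization.Integer
import Mathlib.LinearAlgebra.TensorProduct.Finiteness
import Mathlib.LinearAlgebra.Matrix.NonsingularInverse
import Mathlib.LinearAlgebra.Matrix.ToLin

/-!
# Elements of a flat module independent on a fibre
-/

set_option autoImplicit false
set_option linter.style.haveILetI false

universe u

open TensorProduct

namespace Groth.Agent.FlatFibInj

variable {A : Type u} [CommRing A] (P : Ideal A) [P.IsPrime]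

/-- Every element of the residue field is a fraction. -/
theorem exists_residueField_eq {ι : Type*} [Finite ι] (c : ι → P.ResidueField) :
    ∃ s : A, s ∉ P ∧ ∀ i, ∃ a : A, algebraMap A P.ResidueField a = algebraMap A P.ResidueField s * c i := by
  choose d hd using fun i => IsLocalRing.residue_surjective (R := Localization.AtPrime P) (c i)
  obtain ⟨s, hs⟩ := IsLocalization.exist_integer_multiples_of_finite P.primeCompl d
  refine ⟨s, s.2, fun i => ?_⟩
  obtain ⟨a, ha⟩ := hs i
  refine ⟨a, ?_⟩
  rw [IsScalarTower.algebraMap_apply A (Localization.AtPrime P) P.ResidueField a, ha, ← hd i, Algebra.smul_def,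
    map_mul, ← IsScalarTower.algebraMap_apply, IsLocalRing.ResidueField.algebraMap_eq]

variable {M W : Type u} [AddCommGroup M] [Module A M] [AddCommGroup W] [Module A W]

/-- Relations vanish against elements of a flat module that are independent on the fibre. -/
theorem eq_zero_of_sum_tmul [Module.Flat A M] {r : Type u} [Fintype r] [DecidableEq r] (v : r → M)
    (hv : ∀ c : r → P.ResidueField, ∑ i, c i ⊗ₜ[A] v i = 0 → c = 0)
    (hW : ∀ a : A, a ∉ P → ∀ w : W, a • w = 0 → w = 0) (w : r → W)
    (h : ∑ i, w i ⊗ₜ[A] v i = 0) : w = 0 := by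
  classical
  let ψ : (r → A) →ₗ[A] W := Fintype.linearCombination A w
  let z : (r → A) ⊗[A] M := ∑ i, Pi.single i 1 ⊗ₜ v i
  have hz : ψ.rTensor M z = 0 := by
    simp only [z, map_sum, LinearMap.rTensor_tmul, ψ, Fintype.linearCombination_apply_single, one_smul]
    exact h
  obtain ⟨y, hy⟩ := (Module.Flat.rTensor_exact M (LinearMap.exact_subtype_ker_map ψ) z).1 hz
  obtain ⟨S, hS⟩ := TensorProduct.exists_finset y
  have hv' : ∀ i, v i = ∑ q ∈ S, (q.1 : r → A) i • q.2 := fun i => by
    have := congrArg (fun t => TensorProduct.lid A M ((LinearMap.proj (R := A) (φ := fun _ : r => A) i).rTensor M t)) hy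
    simp only [hS, z, map_sum, LinearMap.rTensor_tmul, Submodule.subtype_apply, LinearMap.proj_apply,
      TensorProduct.lid_tmul, Pi.single_apply, ite_smul, one_smul, zero_smul, Finset.sum_ite_eq,
      Finset.mem_univ, if_true] at this
    exact this.symm
  let κ := P.ResidueField
  let α : (r → κ) →ₗ[κ] (S → κ) :=
    LinearMap.pi fun q => Fintype.linearCombination κ fun i => algebraMap A κ ((q.1.1 : r → A) i)
  have hα : Function.Injective α := (injective_iff_map_eq_zero _).2 fun c hc => hv c (by
    have h1 : ∀ i, c i ⊗ₜ[A] v i = ∑ q ∈ S, (c i * algebraMap A κ ((q.1 : r → A) i)) ⊗ₜ[A] q.2 := fun i => by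
      rw [hv' i, TensorProduct.tmul_sum]
      refine Finset.sum_congr rfl fun q _ => ?_
      rw [TensorProduct.tmul_smul, TensorProduct.smul_tmul', Algebra.smul_def, mul_comm]
    simp only [h1]
    rw [Finset.sum_comm]
    refine Finset.sum_eq_zero fun q hq => ?_
    rw [← TensorProduct.sum_tmul]
    have := congrFun hc ⟨q, hq⟩
    simp only [α, LinearMap.pi_apply, Fintype.linearCombination_apply, smul_eq_mul, Pi.zero_apply] at this
    rw [this, TensorProduct.zero_tmul])
  obtain ⟨g, hg⟩ := LinearMap.exists_leftInverse_of_injective α (LinearMap.ker_eq_bot.2 hα)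
  obtain ⟨s, hs, hb⟩ := exists_residueField_eq P fun p : S × r => g (Pi.single p.1 1) p.2
  choose b hb using hb
  let C : Matrix r r A := Matrix.of fun i j => ∑ q : S, (q.1.1 : r → A) i * b (q, j)
  have hC : C.map (algebraMap A κ) = algebraMap A κ s • (1 : Matrix r r κ) := by
    ext i j
    have h1 := congrFun (LinearMap.congr_fun hg (Pi.single i 1)) j
    simp only [LinearMap.comp_apply, LinearMap.id_apply] at h1
    rw [show α (Pi.single i 1) = ∑ q : S, algebraMap A κ ((q.1.1 : r → A) i) • Pi.single q (1 : κ) from
      funext fun q => by simp [α, Finset.sum_apply, Pi.single_apply, Fintype.linearCombination_apply, Algebra.algebraMap_eq_smul_one]] at h1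
    simp only [map_sum, map_smul, Finset.sum_apply, Pi.smul_apply, smul_eq_mul] at h1
    simp only [C, Matrix.map_apply, Matrix.of_apply, map_sum, map_mul, Matrix.smul_apply, smul_eq_mul]
    rw [Matrix.one_apply, show (if i = j then (1 : κ) else 0) = Pi.single (M := fun _ : r => κ) i 1 j by
      simp [Pi.single_apply, eq_comm], ← h1, Finset.mul_sum]
    exact Finset.sum_congr rfl fun q _ => by rw [hb (q, j)]; ring
  have hdet : C.det ∉ P := fun hd => by
    rw [← Ideal.algebraMap_residueField_eq_zero, RingHom.map_det, RingHom.mapMatrix_apply, hC,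
      Matrix.det_smul, Matrix.det_one, mul_one] at hd
    exact hs (Ideal.algebraMap_residueField_eq_zero.1 (eq_zero_of_pow_eq_zero hd))
  have hker : ∀ q : S, ∑ i, (q.1.1 : r → A) i • w i = 0 := fun q => by
    have := (LinearMap.mem_ker.1 q.1.1.2 : ψ (q.1.1 : r → A) = 0)
    exact (Fintype.linearCombination_apply A w _).symm.trans this
  have hCw : ∀ j, ∑ i, C i j • w i = 0 := fun j => by
    simp only [C, Matrix.of_apply, Finset.sum_smul]
    rw [Finset.sum_comm]
    refine Finset.sum_eq_zero fun q _ => ?_
    simp only [mul_comm _ (b (q, j)), mul_smul]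
    rw [← Finset.smul_sum, hker, smul_zero]
  funext l
  refine hW _ hdet _ ?_
  calc C.det • w l = ∑ i, (C * C.adjugate) i l • w i := by
        rw [Matrix.mul_adjugate]
        simp [Matrix.one_apply]
    _ = ∑ j, C.adjugate j l • ∑ i, C i j • w i := by
        simp only [Matrix.mul_apply, Finset.sum_smul, Finset.smul_sum, smul_smul]
        rw [Finset.sum_comm]
        exact Finset.sum_congr rfl fun j _ => Finset.sum_congr rfl fun i _ => by rw [mul_comm]
    _ = 0 := by simp [hCw]

end Groth.Agent.FlatFibInj
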