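import Groth.Agent.Lib.FlatFibInj.Indep
import Groth.Agent.Lib.FlatH4.InjCrit
import Mathlib.RingTheory.MvPolynomial.Basic
import Mathlib.RingTheory.Polynomial.Basic
import Mathlib.RingTheory.FiniteType
import Mathlib.LinearAlgebra.StdBasis
import Mathlib.LinearAlgebra.Dual.Lemmas

/-!
# Injectivity after tensor products with modules supported near a prime
-/

set_option autoImplicit false
set_option linter.style.haveILetI false

universe u

open TensorProduct

namespace Groth.Agent.FlatFibInj

theorem mem_span_of_mem_span_image {k K : Type u} [Field k] [Field K] (θ : k →+* K) {ι : Type*} {V V' : Type u}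
    [AddCommGroup V] [Module k V] [AddCommGroup V'] [Module K V'] (b : Module.Basis ι k V) (b' : Module.Basis ι K V')
    (ψ : V →+ V') (hψ : ∀ (c : k) (j : ι), ψ (c • b j) = θ c • b' j) {Z : Set V} {v : V}
    (hv : ψ v ∈ Submodule.span K (ψ '' Z)) : v ∈ Submodule.span k Z := by
  by_contra hn
  obtain ⟨φ, hφv, hφ⟩ := Submodule.exists_dual_map_eq_bot_of_notMem hn inferInstance
  let φ' : V' →ₗ[K] K := b'.constr K fun j => θ (φ (b j))
  have key : ∀ x, φ' (ψ x) = θ (φ x) := fun x => by
    rw [← b.linearCombination_repr x, Finsupp.linearCombination_apply, Finsupp.sum, map_sum, map_sum, map_sum,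
      map_sum]
    refine Finset.sum_congr rfl fun j _ => ?_
    rw [hψ, map_smul, map_smul, Module.Basis.constr_basis, smul_eq_mul, smul_eq_mul, map_mul]
  have hle : Submodule.span K (ψ '' Z) ≤ LinearMap.ker φ' := Submodule.span_le.2 (by
    rintro _ ⟨z, hz, rfl⟩
    have h0 : φ z ∈ (⊥ : Submodule k k) := hφ ▸ Submodule.mem_map_of_mem (Submodule.subset_span hz)
    simp [key, (Submodule.mem_bot k).1 h0])
  have := hle hv
  rw [LinearMap.mem_ker, key] at this
  exact hφv (θ.injective (this.trans (map_zero θ).symm))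

variable {A : Type u} [CommRing A] (P : Ideal A) [P.IsPrime] {N : Type u} [AddCommGroup N] [Module A N]
  [Module.Flat A N]

theorem mem_smul_top_of_residue_tmul_eq_zero {x : N} (h : (1 : P.ResidueField) ⊗ₜ[A] x = 0) :
    x ∈ P • (⊤ : Submodule A N) := by
  rw [← FlatH4.one_tmul_eq_zero_iff]
  let j : A ⧸ P →ₗ[A] P.ResidueField := Submodule.liftQ P (Algebra.linearMap A P.ResidueField)
    fun a ha => Ideal.algebraMap_residueField_eq_zero.2 ha
  have hj : Function.Injective j := by
    rw [injective_iff_map_eq_zero]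
    intro a ha
    obtain ⟨a, rfl⟩ := Submodule.mkQ_surjective P a
    exact (Submodule.Quotient.mk_eq_zero P).2 (Ideal.algebraMap_residueField_eq_zero.1 ha)
  refine Module.Flat.rTensor_preserves_injective_linearMap (M := N) j hj ?_
  rw [map_zero, LinearMap.rTensor_tmul]
  change algebraMap A P.ResidueField 1 ⊗ₜ[A] x = 0
  rw [map_one, h]

theorem exists_finset_mem_smul {x : N} (h : x ∈ P • (⊤ : Submodule A N)) :
    ∃ G : Finset A, ↑G ⊆ (P : Set A) ∧ x ∈ Ideal.span (G : Set A) • (⊤ : Submodule A N) := by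
  classical
  refine Submodule.smul_induction_on (p := fun y => ∃ G : Finset A, ↑G ⊆ (P : Set A) ∧
    y ∈ Ideal.span (G : Set A) • (⊤ : Submodule A N)) h (fun a ha n _ => ⟨{a}, by simpa using ha,
      Submodule.smul_mem_smul (Ideal.subset_span (by simp)) Submodule.mem_top⟩) ?_
  rintro a b ⟨G, hG, ha⟩ ⟨H, hH, hb⟩
  refine ⟨G ∪ H, by simp [hG, hH], add_mem ?_ ?_⟩
  · exact Submodule.smul_mono (Ideal.span_mono (by simp)) le_rfl ha
  · exact Submodule.smul_mono (Ideal.span_mono (by simp)) le_rfl hb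

theorem exists_local_ideal {B L : Type u} [CommRing B] [Algebra A B] [Algebra.FiniteType A B] (T : Submonoid B)
    [CommRing L] [Algebra B L] [Algebra A L] [IsScalarTower A B L] [IsLocalization T L]
    [Module L N] [IsScalarTower A L N] [Module.Finite L N]
    {M : Type u} [AddCommGroup M] [Module A M] [Module.Flat A M] (u : N →ₗ[A] M)
    (hu : Function.Injective (u.lTensor P.ResidueField)) :
    ∃ G : Finset A, ↑G ⊆ (P : Set A) ∧ ∀ (W : Type u) [AddCommGroup W] [Module A W],
      (∀ a ∈ G, ∀ w : W, a • w = 0) → (∀ a : A, a ∉ P → ∀ w : W, a • w = 0 → w = 0) →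
      Function.Injective (u.lTensor W) := by
  classical
  obtain ⟨r, f, hf⟩ := Algebra.FiniteType.iff_quotient_mvPolynomial''.1 (inferInstance : Algebra.FiniteType A B)
  obtain ⟨l, n, hn⟩ := Module.Finite.exists_fin (R := L) (M := N)
  let π : (Fin l → MvPolynomial (Fin r) A) →ₗ[A] N := ∑ i, ((LinearMap.toSpanSingleton L N (n i)).restrictScalars A) ∘ₗ
    ((IsScalarTower.toAlgHom A B L).comp f).toLinearMap ∘ₗ LinearMap.proj i
  have hπ : ∀ v : (Fin l → MvPolynomial (Fin r) A), π v = ∑ i, algebraMap B L (f (v i)) • n i := fun v => by simp [π]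
  have hπX : ∀ (p : MvPolynomial (Fin r) A) (v : (Fin l → MvPolynomial (Fin r) A)), π (p • v) = algebraMap B L (f p) • π v := fun p v => by
    simp [hπ, Finset.smul_sum, smul_smul, map_mul]
  let κ := P.ResidueField
  let Φ : (Fin l → MvPolynomial (Fin r) A) →+ (Fin l → MvPolynomial (Fin r) κ) :=
    AddMonoidHom.mk' (fun v i => MvPolynomial.map (algebraMap A κ) (v i)) fun v w => by ext i; simp
  have hΦsmul : ∀ (a : A) (v : (Fin l → MvPolynomial (Fin r) A)), Φ (a • v) = algebraMap A κ a • Φ v := fun a v => by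
    funext i
    simp [Φ, MvPolynomial.smul_eq_C_mul, -algebraMap_smul]
  let U : Submodule (MvPolynomial (Fin r) κ) (Fin l → MvPolynomial (Fin r) κ) :=
    Submodule.span (MvPolynomial (Fin r) κ) (Φ '' {v | (1 : κ) ⊗ₜ[A] π v = 0})
  obtain ⟨g', hg', hU⟩ := (Submodule.fg_span_iff_fg_span_finset_subset _).1 (IsNoetherian.noetherian U)
  obtain ⟨g, hg, rfl⟩ := Finset.subset_set_image_iff.1 hg'
  -- finitely many coefficients
  choose Gg hGg hgJ using fun v : g => exists_finset_mem_smul P
    (mem_smul_top_of_residue_tmul_eq_zero P (hg v.2))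
  let A₀ : Subalgebra ℤ A := Algebra.adjoin ℤ
    ((g.biUnion fun v => Finset.univ.biUnion fun i => (v i).coeffs : Finset A) : Set A)
  haveI : Algebra.FiniteType ℤ A₀ := ⟨(Subalgebra.fg_top A₀).2 (Subalgebra.fg_adjoin_finset _)⟩
  haveI : IsNoetherianRing A₀ := Algebra.FiniteType.isNoetherianRing ℤ A₀
  let p : Ideal A₀ := P.comap (algebraMap A₀ A)
  obtain ⟨G₀, hG₀⟩ := IsNoetherian.noetherian p
  let G : Finset A := G₀.image (algebraMap A₀ A) ∪ Finset.univ.biUnion Gg
  let J : Ideal A := Ideal.span (G : Set A)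
  have hGP : ↑G ⊆ (P : Set A) := by
    intro a ha
    rcases Finset.mem_union.1 ha with ha | ha
    · obtain ⟨b, hb, rfl⟩ := Finset.mem_image.1 ha
      exact (hG₀ ▸ Submodule.subset_span hb : b ∈ p)
    · obtain ⟨v, -, hv⟩ := Finset.mem_biUnion.1 ha
      exact hGg v hv
  have hpJ : p.map (algebraMap A₀ A) ≤ J := by
    rw [← hG₀, Ideal.submodule_span_eq, Ideal.map_span]
    exact Ideal.span_mono (by intro a ha; simp only [G, Finset.coe_union, Finset.coe_image]; exact Or.inl ha)
  let JN : Submodule A N := J • ⊤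
  have hgJN : ∀ v ∈ g, π v ∈ JN := fun v hv =>
    Submodule.smul_mono (Ideal.span_mono fun a ha =>
      Finset.mem_union_right _ (Finset.mem_biUnion.2 ⟨⟨v, hv⟩, Finset.mem_univ _, ha⟩)) le_rfl (hgJ ⟨v, hv⟩)
  have hLJN : ∀ (c : L) (x : N), x ∈ JN → c • x ∈ JN := fun c x hx =>
    Submodule.smul_induction_on (p := fun y => c • y ∈ JN) hx
      (fun a ha y _ => by rw [smul_comm]; exact Submodule.smul_mem_smul ha Submodule.mem_top)
      fun a b ha hb => by rw [smul_add]; exact add_mem ha hb
  -- a basis of the fibre modulo torsion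
  let bκ := Pi.basis fun _ : Fin l => MvPolynomial.basisMonomials (Fin r) κ
  let bA := Pi.basis fun _ : Fin l => MvPolynomial.basisMonomials (Fin r) A
  have hbb : ∀ t, Φ (bA t) = bκ t := fun ⟨i, μ⟩ => by
    funext i'
    simp [Φ, bA, bκ, Pi.basis_apply, Pi.single_apply, apply_ite (MvPolynomial.map (algebraMap A κ))]
  let Uk : Submodule κ (Fin l → MvPolynomial (Fin r) κ) := U.restrictScalars κ
  obtain ⟨b, hbs, hbspan, hbli⟩ := exists_linearIndependent κ (Set.range fun t => Uk.mkQ (bκ t))
  choose j hj using fun x : b => hbs x.2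
  let e : b → (Fin l → MvPolynomial (Fin r) A) := fun x => bA (j x)
  let C : Submodule A N := Submodule.span A (Set.range fun x => π (e x)) ⊔ JN
  -- descent to a noetherian ring
  have hg₀ : ∀ v ∈ g, ∃ v₀ : Fin l → MvPolynomial (Fin r) A₀,
      ∀ i, MvPolynomial.map (algebraMap A₀ A) (v₀ i) = v i := fun v hv => by
    have : ∀ i, ∃ x : MvPolynomial (Fin r) A₀, MvPolynomial.map (algebraMap A₀ A) x = v i := fun i => by
      refine (MvPolynomial.mem_range_map_iff_coeffs_subset).2 fun a ha => ?_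
      refine ⟨⟨a, Algebra.subset_adjoin ?_⟩, rfl⟩
      exact Finset.mem_coe.2 (Finset.mem_biUnion.2 ⟨v, hv, Finset.mem_biUnion.2 ⟨i, Finset.mem_univ _, ha⟩⟩)
    choose x hx using this
    exact ⟨x, hx⟩
  choose g₀ hg₀ using hg₀
  let k := p.ResidueField
  let θ : k →+* κ := Ideal.ResidueField.map p P (algebraMap A₀ A) rfl
  let b₀ := Pi.basis fun _ : Fin l => MvPolynomial.basisMonomials (Fin r) A₀
  let bk := Pi.basis fun _ : Fin l => MvPolynomial.basisMonomials (Fin r) k
  let Φk : (Fin l → MvPolynomial (Fin r) A₀) →+ (Fin l → MvPolynomial (Fin r) k) :=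
    AddMonoidHom.mk' (fun v i => MvPolynomial.map (algebraMap A₀ k) (v i)) fun v w => by ext i; simp
  let ψ : (Fin l → MvPolynomial (Fin r) k) →+ (Fin l → MvPolynomial (Fin r) κ) :=
    AddMonoidHom.mk' (fun v i => MvPolynomial.map θ (v i)) fun v w => by ext i; simp
  have hψ : ∀ c t, ψ (c • bk t) = θ c • bκ t := fun c ⟨i, μ⟩ => by
    funext i'
    simp [ψ, bk, bκ, Pi.basis_apply, Pi.single_apply, apply_ite (MvPolynomial.map θ),
      MvPolynomial.smul_eq_C_mul]
  let Ψ : (Fin l → MvPolynomial (Fin r) A₀) →ₗ[A₀] (Fin l → MvPolynomial (Fin r) A) :=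
    { toFun := fun v i => MvPolynomial.map (algebraMap A₀ A) (v i)
      map_add' := fun v w => by ext i; simp
      map_smul' := fun c v => by
        funext i
        simp [MvPolynomial.smul_eq_C_mul, Algebra.smul_def, MvPolynomial.algebraMap_eq] }
  have hψΦ : ∀ v, ψ (Φk v) = Φ (Ψ v) := fun v => by
    funext i
    change MvPolynomial.map θ (MvPolynomial.map (algebraMap A₀ k) (v i)) =
      MvPolynomial.map (algebraMap A κ) (MvPolynomial.map (algebraMap A₀ A) (v i))
    rw [MvPolynomial.map_map, MvPolynomial.map_map]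
    congr 2
    exact RingHom.ext fun c => Ideal.ResidueField.map_algebraMap _ _ _ rfl c
  let Z : Set (Fin l → MvPolynomial (Fin r) A₀) := Set.range (fun x => b₀ (j x)) ∪
    Set.range (fun q : g × (Fin r →₀ ℕ) => MvPolynomial.monomial q.2 (1 : A₀) • g₀ q.1.1 q.1.2)
  have hb₀ : ∀ t, Ψ (b₀ t) = bA t ∧ Φk (b₀ t) = bk t := fun ⟨i, μ⟩ => by
    constructor <;> funext i' <;>
      simp [Ψ, Φk, b₀, bk, bA, Pi.basis_apply, Pi.single_apply, apply_ite (MvPolynomial.map (algebraMap A₀ A)),
        apply_ite (MvPolynomial.map (algebraMap A₀ k))]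
  have hπZ : ∀ z ∈ Submodule.span A₀ Z, π (Ψ z) ∈ C := fun z hz => by
    induction hz using Submodule.span_induction with
    | mem z hz =>
      rcases hz with ⟨x, rfl⟩ | ⟨⟨⟨v, hv⟩, μ⟩, rfl⟩
      · change π (Ψ (b₀ (j x))) ∈ C
        rw [(hb₀ _).1]
        exact Submodule.mem_sup_left (Submodule.subset_span ⟨x, rfl⟩)
      · have : Ψ (MvPolynomial.monomial μ (1 : A₀) • g₀ v hv) = MvPolynomial.monomial μ (1 : A) • v := by
          funext i
          simp [Ψ, hg₀ v hv i]
        change π (Ψ (MvPolynomial.monomial μ (1 : A₀) • g₀ v hv)) ∈ C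
        rw [this, hπX]
        exact Submodule.mem_sup_right (hLJN _ _ (hgJN v hv))
    | zero => simp
    | add x y _ _ hx hy => rw [map_add, map_add]; exact add_mem hx hy
    | smul c x _ hx =>
      rw [map_smul, show c • Ψ x = (algebraMap A₀ A c) • Ψ x from (algebraMap_smul A c _).symm, map_smul]
      exact Submodule.smul_mem _ _ hx
  have hmono : ∀ t, ∃ σ : A, σ ∉ P ∧ σ • π (bA t) ∈ C := fun t => by
    have hκ : bκ t ∈ Submodule.span κ (ψ '' (Φk '' Z)) := by
      have h1 : Uk.mkQ (bκ t) ∈ Submodule.span κ b := hbspan.symm ▸ Submodule.subset_span ⟨t, rfl⟩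
      rw [show (b : Set _) = Uk.mkQ '' Set.range (fun x : b => bκ (j x)) by
        rw [← Set.range_comp]; ext y
        constructor
        · exact fun hy => ⟨⟨y, hy⟩, hj ⟨y, hy⟩⟩
        · rintro ⟨x, rfl⟩
          exact (Eq.subst (motive := fun z => z ∈ b) (hj x).symm x.2),
        ← Submodule.map_span, Submodule.mem_map] at h1
      obtain ⟨c, hc, hct⟩ := h1
      rw [Submodule.mkQ_apply, Submodule.mkQ_apply, Submodule.Quotient.eq] at hct
      have hc' : c ∈ Submodule.span κ (ψ '' (Φk '' Z)) := by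
        refine Submodule.span_mono ?_ hc
        rintro _ ⟨x, rfl⟩
        exact ⟨_, ⟨_, Or.inl ⟨x, rfl⟩, rfl⟩, by rw [hψΦ, (hb₀ _).1, hbb]⟩
      have hU' : ∀ y ∈ U, y ∈ Submodule.span κ (ψ '' (Φk '' Z)) := fun y hy => by
        have hy' : y ∈ Submodule.span (MvPolynomial (Fin r) κ) (↑(g.image Φ) : Set _) := hU ▸ hy
        rw [Finset.coe_image] at hy'
        revert y
        suffices ∀ (q : MvPolynomial (Fin r) κ), ∀ v ∈ g, q • Φ v ∈ Submodule.span κ (ψ '' (Φk '' Z)) by
          intro y _ hy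
          obtain ⟨c, hcs, rfl⟩ := Submodule.mem_span_set.1 hy
          refine Submodule.sum_mem _ fun x hx => ?_
          obtain ⟨v, hv, rfl⟩ := hcs hx
          exact this _ v hv
        intro q v hv
        induction q using MvPolynomial.induction_on' with
        | monomial μ a =>
          rw [show MvPolynomial.monomial μ a = a • MvPolynomial.monomial μ (1 : κ) by
            rw [MvPolynomial.smul_monomial, smul_eq_mul, mul_one], smul_assoc]
          refine Submodule.smul_mem _ _ (Submodule.subset_span ⟨_, ⟨_, Or.inr ⟨⟨⟨v, hv⟩, μ⟩, rfl⟩, rfl⟩, ?_⟩)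
          rw [hψΦ]
          funext i
          simp [Φ, Ψ, hg₀ v hv i]
        | add x y hx hy => rw [add_smul]; exact add_mem hx hy
      have : bκ t = c - (c - bκ t) := (sub_sub_cancel c _).symm
      rw [this]
      exact sub_mem hc' (hU' _ hct)
    have hk : bk t ∈ Submodule.span k (Φk '' Z) :=
      mem_span_of_mem_span_image θ bk bκ ψ hψ (by rwa [← one_smul k (bk t), hψ, map_one, one_smul])
    have hden : ∀ y ∈ Submodule.span k (Φk '' Z), ∃ σ : A₀, σ ∉ p ∧ ∃ z ∈ Submodule.span A₀ Z,
        Φk z = algebraMap A₀ k σ • y := fun y hy => by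
      have hΦk : ∀ (c : A₀) v, Φk (c • v) = algebraMap A₀ k c • Φk v := fun c v => by
        funext i
        simp [Φk, MvPolynomial.smul_eq_C_mul, -algebraMap_smul]
      have h1 : (1 : A₀) ∉ p := fun h => (inferInstance : p.IsPrime).ne_top ((Ideal.eq_top_iff_one _).2 h)
      induction hy using Submodule.span_induction with
      | mem y hy =>
        obtain ⟨z, hz, rfl⟩ := hy
        exact ⟨1, h1, z, Submodule.subset_span hz, by rw [map_one, one_smul]⟩
      | zero => exact ⟨1, h1, 0, zero_mem _, by rw [map_zero, smul_zero]⟩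
      | add y y' _ _ hy hy' =>
        obtain ⟨σ, hσ, z, hz, e1⟩ := hy
        obtain ⟨σ', hσ', z', hz', e2⟩ := hy'
        refine ⟨σ * σ', fun h => ((inferInstance : p.IsPrime).mem_or_mem h).elim hσ hσ', σ' • z + σ • z',
          add_mem (Submodule.smul_mem _ _ hz) (Submodule.smul_mem _ _ hz'), ?_⟩
        rw [map_add, hΦk, hΦk, e1, e2, smul_smul, smul_smul, map_mul, smul_add, mul_comm]
      | smul c y _ hy =>
        obtain ⟨σ, hσ, z, hz, e1⟩ := hy
        obtain ⟨s, hs, ha⟩ := exists_residueField_eq p (fun _ : Unit => c)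
        obtain ⟨a, ha⟩ := ha ()
        refine ⟨σ * s, fun h => ((inferInstance : p.IsPrime).mem_or_mem h).elim hσ hs, a • z,
          Submodule.smul_mem _ _ hz, ?_⟩
        rw [hΦk, e1, ha, smul_smul, smul_smul, map_mul]
        congr 1
        ring
    obtain ⟨σ, hσ, z, hz, hzt⟩ := hden _ hk
    refine ⟨algebraMap A₀ A σ, hσ, ?_⟩
    have hdiff : π (Ψ (σ • b₀ t - z)) ∈ JN := by
      rw [← bA.linearCombination_repr (Ψ (σ • b₀ t - z)), Finsupp.linearCombination_apply, Finsupp.sum, map_sum]
      refine Submodule.sum_mem _ fun ⟨i, μ⟩ _ => ?_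
      rw [map_smul]
      refine Submodule.smul_mem_smul (hpJ ?_) Submodule.mem_top
      rw [show bA.repr (Ψ (σ • b₀ t - z)) ⟨i, μ⟩ = algebraMap A₀ A (((σ • b₀ t - z) i).coeff μ) by
        simp only [bA, Pi.basis_repr]
        exact MvPolynomial.coeff_map (algebraMap A₀ A) _ μ]
      refine Ideal.mem_map_of_mem _ ?_
      have h0 : Φk (σ • b₀ t - z) = 0 := by
        rw [map_sub, hzt, sub_eq_zero]
        funext i'
        simp [Φk, ← (hb₀ t).2, MvPolynomial.smul_eq_C_mul, -algebraMap_smul]
      have := congrArg (MvPolynomial.coeff μ) (congrFun h0 i)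
      exact Ideal.algebraMap_residueField_eq_zero.1
        ((MvPolynomial.coeff_map (algebraMap A₀ k) _ μ).symm.trans (this.trans (MvPolynomial.coeff_zero μ)))
    rw [map_sub, map_sub, map_smul, (hb₀ t).1, ← algebraMap_smul A σ (bA t), map_smul] at hdiff
    have := add_mem (Submodule.mem_sup_right hdiff : _ ∈ C) (hπZ z hz)
    rwa [sub_add_cancel] at this
  have hall : ∀ v : (Fin l → MvPolynomial (Fin r) A), ∃ σ : A, σ ∉ P ∧ σ • π v ∈ C := fun v => by
    have h1 : (1 : A) ∉ P := fun h => (inferInstance : P.IsPrime).ne_top ((Ideal.eq_top_iff_one _).2 h)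
    have hv : v ∈ Submodule.span A (Set.range bA) := bA.mem_span v
    induction hv using Submodule.span_induction with
    | mem y hy => obtain ⟨t, rfl⟩ := hy; exact hmono t
    | zero => exact ⟨1, h1, by simp⟩
    | add y y' _ _ hy hy' =>
      obtain ⟨σ, hσ, e1⟩ := hy
      obtain ⟨σ', hσ', e2⟩ := hy'
      refine ⟨σ * σ', fun h => ((inferInstance : P.IsPrime).mem_or_mem h).elim hσ hσ', ?_⟩
      rw [map_add, smul_add]
      exact add_mem (by rw [mul_comm, mul_smul]; exact Submodule.smul_mem _ _ e1)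
        (by rw [mul_smul]; exact Submodule.smul_mem _ _ e2)
    | smul c y _ hy =>
      obtain ⟨σ, hσ, e1⟩ := hy
      exact ⟨σ, hσ, by rw [map_smul, smul_comm]; exact Submodule.smul_mem _ _ e1⟩
  -- conclusion
  refine ⟨G, hGP, fun W _ _ hGW hPW => (injective_iff_map_eq_zero _).2 fun y hy => ?_⟩
  obtain ⟨S, rfl⟩ := TensorProduct.exists_finset y
  choose c hc using fun x : N => (Submodule.mem_span_range_iff_exists_fun L).1 (hn ▸ Submodule.mem_top (x := x))
  obtain ⟨s, hs⟩ := IsLocalization.exist_integer_multiples_of_finite T fun p : S × Fin l => c p.1.1.2 p.2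
  obtain ⟨ιs, hιs⟩ : ∃ ιs : L, ιs * algebraMap B L (s : B) = 1 :=
    let ⟨v, hv⟩ := IsLocalization.map_units L s
    ⟨↑v⁻¹, by rw [← hv, Units.inv_mul]⟩
  choose bb hbb' using fun q => hs q
  choose pp hpp using fun q => hf (bb q)
  let v : S → (Fin l → MvPolynomial (Fin r) A) := fun q i => pp (q, i)
  have hx : ∀ q : S, q.1.2 = ιs • π (v q) := fun q => by
    have : algebraMap B L (s : B) • q.1.2 = π (v q) := by
      rw [hπ, ← hc q.1.2, Finset.smul_sum]
      refine Finset.sum_congr rfl fun i _ => ?_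
      rw [show f (v q i) = bb (q, i) from hpp (q, i), hbb' (q, i), Algebra.smul_def, mul_smul]
    rw [← this, smul_smul, hιs, one_smul]
  choose σ hσ hσC using fun q => hall (v q)
  have hsplit : ∀ q : S, ∃ cc : b →₀ A, ∀ w : W, w ⊗ₜ[A] ((∏ q', σ q') • q.1.2) =
      ∑ i ∈ cc.support, (cc i • w) ⊗ₜ[A] (ιs • π (e i)) := fun q => by
    have hC : (∏ q', σ q') • π (v q) ∈ C := by
      rw [← Finset.prod_erase_mul _ _ (Finset.mem_univ q), mul_smul]
      exact Submodule.smul_mem _ _ (hσC q)
    obtain ⟨y, hy, z, hz, hyz⟩ := Submodule.mem_sup.1 hC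
    obtain ⟨cc, rfl⟩ := Finsupp.mem_span_range_iff_exists_finsupp.1 hy
    refine ⟨cc, fun w => ?_⟩
    rw [hx q, smul_comm, ← hyz, smul_add, TensorProduct.tmul_add]
    have hzero : w ⊗ₜ[A] (ιs • z) = 0 := by
      refine Submodule.smul_induction_on (p := fun t => w ⊗ₜ[A] t = 0) (hLJN ιs z hz) (fun a ha t _ => ?_)
        fun a b ha hb => by rw [TensorProduct.tmul_add, ha, hb, add_zero]
      rw [TensorProduct.tmul_smul, TensorProduct.smul_tmul']
      have : a • w = 0 := by
        induction ha using Submodule.span_induction with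
        | mem a ha => exact hGW a ha w
        | zero => exact zero_smul A w
        | add a b _ _ ha hb => rw [add_smul, ha, hb, add_zero]
        | smul d a _ ha => rw [smul_assoc, ha, smul_zero]
      rw [this, TensorProduct.zero_tmul]
    rw [hzero, add_zero, Finsupp.sum, Finset.smul_sum, TensorProduct.tmul_sum]
    exact Finset.sum_congr rfl fun i _ => by rw [smul_comm, TensorProduct.tmul_smul, TensorProduct.smul_tmul']
  choose cc hcc using hsplit
  let R0 : Finset b := Finset.univ.biUnion fun q => (cc q).support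
  let w' : R0 → W := fun i => ∑ q : S, cc q i.1 • q.1.1
  have hy' : (∏ q', σ q') • ∑ q ∈ S, q.1 ⊗ₜ[A] q.2 = ∑ i : R0, w' i ⊗ₜ[A] (ιs • π (e i.1)) := by
    simp only [w', TensorProduct.sum_tmul]
    rw [Finset.sum_comm, Finset.smul_sum, ← Finset.sum_coe_sort S]
    refine Finset.sum_congr rfl fun q _ => ?_
    rw [← TensorProduct.tmul_smul, hcc q, Finset.sum_coe_sort R0 fun i => (cc q i • q.1.1) ⊗ₜ[A] (ιs • π (e i))]
    exact Finset.sum_subset (Finset.subset_biUnion_of_mem (fun q => (cc q).support) (Finset.mem_univ q))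
      fun i _ hi => by rw [Finsupp.notMem_support_iff.1 hi, zero_smul, TensorProduct.zero_tmul]
  have hw' : w' = 0 := by
    refine eq_zero_of_sum_tmul P (fun i : R0 => u (ιs • π (e i.1))) (fun c hc => ?_) hPW w' ?_
    · have h1 : ∑ i : R0, c i ⊗ₜ[A] (ιs • π (e i.1)) = 0 := hu (by simpa [map_sum] using hc)
      have h2 : ∑ i : R0, c i ⊗ₜ[A] π (e i.1) = 0 := by
        have h3 := congrArg (((LinearMap.lsmul L N (algebraMap B L (s : B))).restrictScalars A).lTensor κ) h1
        simpa [map_sum, smul_smul, mul_comm, hιs] using h3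
      obtain ⟨d, hd, ha⟩ := exists_residueField_eq P c
      choose a ha using ha
      have h4 : (1 : κ) ⊗ₜ[A] π (∑ i : R0, a i • e i.1) = 0 := by
        rw [map_sum, TensorProduct.tmul_sum]
        refine (Finset.sum_congr rfl fun i _ => ?_).trans
          ((Finset.smul_sum (r := d) (f := fun i : R0 => c i ⊗ₜ[A] π (e i.1)) (s := Finset.univ)).symm.trans
            (by rw [h2, smul_zero]))
        rw [map_smul, TensorProduct.tmul_smul, TensorProduct.smul_tmul', TensorProduct.smul_tmul',
          Algebra.smul_def, Algebra.smul_def, mul_one, ha i]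
      have h5 : Φ (∑ i : R0, a i • e i.1) ∈ Uk := Submodule.subset_span ⟨_, h4, rfl⟩
      have h6 : ∑ i : R0, algebraMap A κ (a i) • (Subtype.val i.1) = 0 := by
        rw [← (Submodule.Quotient.mk_eq_zero Uk).2 h5, ← Submodule.mkQ_apply, map_sum, map_sum]
        refine Finset.sum_congr rfl fun i _ => ?_
        rw [hΦsmul, map_smul, hbb]
        exact congrArg _ (hj i.1).symm
      have h7 := Fintype.linearIndependent_iff.1 (hbli.comp (fun i : R0 => i.1) Subtype.val_injective)
        (fun i => algebraMap A κ (a i)) h6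
      funext i
      have := h7 i
      rw [ha i, mul_eq_zero] at this
      exact this.resolve_left fun h => hd (Ideal.algebraMap_residueField_eq_zero.1 h)
    · have := congrArg (u.lTensor W) hy'
      rw [map_smul, hy, smul_zero, map_sum] at this
      simpa using this.symm
  have hσy : (∏ q', σ q') • ∑ q ∈ S, q.1 ⊗ₜ[A] q.2 = (0 : W ⊗[A] N) := by
    rw [hy', hw']; simp
  have hprod : (∏ q', σ q') ∉ P := fun h =>
    let ⟨q, _, hq⟩ := (inferInstance : P.IsPrime).prod_mem_iff.1 h
    hσ q hq
  refine Module.Flat.rTensor_preserves_injective_linearMap (M := N) (LinearMap.lsmul A W (∏ q', σ q'))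
    ((injective_iff_map_eq_zero _).2 fun w hw => hPW _ hprod w hw) ?_
  rw [map_zero, show (LinearMap.lsmul A W (∏ q', σ q')).rTensor N = LinearMap.lsmul A _ (∏ q', σ q') from
    TensorProduct.ext' fun _ _ => rfl]
  exact hσy

end Groth.Agent.FlatFibInj
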